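import Groth.Agent.Lib.CurveModel9.Main
import Groth.Agent.Lib.FibDepth5.GeomRkOpenApps
import Groth.Agent.Lib.Goren15.BaseChange
import Groth.Agent.Lib.CubeField.Simple
import Groth.Agent.S4627
import Groth.Agent.S13624

/-!
# Families of normal Gorenstein surfaces: openness and Noetherian models
-/

set_option autoImplicit false
set_option linter.style.haveILetI false
set_option backward.isDefEq.respectTransparency false
set_option backward.isDefEq.respectTransparency.types false
set_option backward.defeqAttrib.useBackward true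
universe u

open CategoryTheory CategoryTheory.Limits AlgebraicGeometry Opposite TopologicalSpace

namespace Groth.Agent.GorSurfModel9

/-- An integral normal Gorenstein surface. -/
def IsSurf (W : Scheme.{u}) : Prop :=
  IsIntegral W ∧ Pi1.IsNormalScheme W ∧ topologicalKrullDim ↥W = 2 ∧
    ∀ x : W, LocCoh.IsGorensteinLocalRing (W.presheaf.stalk x)

theorem IsSurf.of_iso {W W' : Scheme.{u}} (e : W ≅ W') (h : IsSurf W) : IsSurf W' := by
  obtain ⟨h1, h2, h3, h4⟩ := h
  haveI := h1
  haveI : Nonempty W' := ⟨e.hom (Classical.arbitrary W)⟩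
  let ε := fun x : W' => (asIso (e.inv.stalkMap x)).commRingCatIsoToRingEquiv
  refine ⟨isIntegral_of_isOpenImmersion e.inv, fun x => ?_, ?_, fun x => ?_⟩
  · obtain ⟨hd, hi⟩ := h2 (e.inv x)
    exact ⟨(ε x).symm.toMulEquiv.isDomain, IsIntegrallyClosed.of_equiv (ε x)⟩
  · rw [← IsHomeomorph.topologicalKrullDim_eq _ (Scheme.Hom.homeomorph e.hom).isHomeomorph, h3]
  · exact (Goren15.isGorensteinLocalRing_iff_of_ringEquiv (ε x)).1 (h4 _)

/-- Geometric normality at a point, in terms of the smooth locus. -/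
def GN {k : Type u} [Field k] {Z : Scheme.{u}} (p : Z ⟶ Spec (CommRingCat.of k)) [LocallyOfFinitePresentation p]
    (z : Z) : Prop :=
  (∀ w, w ⤳ z → ringKrullDim (Z.presheaf.stalk w) ≤ ((1 : ℕ) : WithBot ℕ∞) → w ∈ p.smoothLocus) ∧
    LocCoh.HasSk 2 (Z.presheaf.stalk z) (Z.presheaf.stalk z)

theorem gn_of_normal_bc {k K : Type u} [Field k] [Field K] [Algebra k K] [IsAlgClosed K] {Z : Scheme.{u}}
    (p : Z ⟶ Spec (CommRingCat.of k)) [LocallyOfFinitePresentation p]
    (h : Pi1.IsNormalScheme (FBase.bc p K)) (z : Z) : GN p z := by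
  have hsq : IsPullback (FBase.bcπ p K) (pullback.snd p (Spec.map (CommRingCat.ofHom (algebraMap k K)))) p
      (Spec.map (CommRingCat.ofHom (algebraMap k K))) := IsPullback.of_hasPullback _ _
  let q : FBase.bc p K ⟶ Spec (CommRingCat.of K) := pullback.snd p (Spec.map (CommRingCat.ofHom (algebraMap k K)))
  haveI : LocallyOfFinitePresentation q := MorphismProperty.of_isPullback hsq inferInstance
  haveI : IsLocallyNoetherian (FBase.bc p K) := LocallyOfFiniteType.isLocallyNoetherian q
  obtain ⟨z', hz', -⟩ := DimF18.exists_over hsq z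
  obtain ⟨hR, hS⟩ := (FibDepth5.normal_local_iff _).1 (h z')
  refine ⟨fun w hw hd => ?_, ?_⟩
  swap
  · have := (FibDepth5.hasSk_stalk_bc_iff p K 2 z').1 hS
    rwa [show (FBase.bcπ p K).base z' = z from hz'] at this
  haveI : Flat (FBase.bcπ p K) := MorphismProperty.of_isPullback hsq.flip inferInstance
  rw [← hz'] at hw
  obtain ⟨v, hv, hvw⟩ := DimF18.exists_lift_specializes (FBase.bcπ p K) hw
  obtain ⟨m, hm, hmw, hmd'⟩ := DimF18.exists_sdim_eq hsq v
  have hmd : VarDim.sdim q m = VarDim.sdim p (FBase.bcπ p K v) := hmd'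
  have hdim := DimF18.localDim_bc hsq m
  obtain ⟨b, hb, hb'⟩ := CMEquiDim4.exists_stalk_dim q m
  obtain ⟨c, hc, hc'⟩ := CMEquiDim4.exists_stalk_dim p w
  rw [hb', hmw, hvw, hc', hmd, hvw] at hdim
  have hbc : b = c := by
    have := Nat.cast_inj.1 hdim
    omega
  haveI := (FibDepth5.hasRk_stalk_iff _ z' 1).1 hR m (hm.trans hv) (by rw [hb, hbc, ← hc]; exact hd)
  have hs : m ∈ q.smoothLocus := RegSmooth17.mem_smoothLocus_of_isRegularLocalRing q m
    (RegSmooth17.formallySmooth_residue_of_perfectField q m)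
  have := Descend.mem_smoothLocus_of_flat_baseChange hsq m hs
  rwa [hmw, hvw] at this

/-- A geometrically integral, geometrically normal Gorenstein surface over a field. -/
def GoodK {k : Type u} [Field k] {Z : Scheme.{u}} (p : Z ⟶ Spec (CommRingCat.of k))
    [LocallyOfFinitePresentation p] : Prop :=
  GeometricallyIntegral p ∧ topologicalKrullDim ↥Z = 2 ∧
    ∀ z : Z, GN p z ∧ LocCoh.IsGorensteinLocalRing (Z.presheaf.stalk z)

theorem goodK_iff {k K : Type u} [Field k] [Field K] [IsAlgClosed K] {Z W : Scheme.{u}} {m : W ⟶ Z}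
    {q : W ⟶ Spec (CommRingCat.of K)} {p : Z ⟶ Spec (CommRingCat.of k)} [LocallyOfFinitePresentation p]
    {φ : CommRingCat.of k ⟶ CommRingCat.of K} (sq : IsPullback m q p (Spec.map φ)) :
    GoodK p ↔ IsSurf W := by
  letI : Algebra k K := φ.hom.toAlgebra
  let e : W ≅ FBase.bc p K := sq.isoPullback
  have hsq : IsPullback (FBase.bcπ p K) (FBase.bcStr p K) p (Spec.map (CommRingCat.ofHom (algebraMap k K))) :=
    IsPullback.of_hasPullback _ _
  have hd : topologicalKrullDim ↥(FBase.bc p K) = topologicalKrullDim ↥Z := Groth.Agent.S4642.result p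
  constructor
  · rintro ⟨h1, h2, h3⟩
    refine IsSurf.of_iso e.symm ⟨?_, fun x => ?_, hd.trans h2, fun x => ?_⟩
    · haveI := h1
      exact GeometricallyIntegral.geometrically_isIntegral (f := p) _ _ _ hsq
    · exact ((FibDepth5.geomNormal_iff p _).2 (h3 ((FBase.bcπ p K).base x)).1) K x rfl
    · exact (Goren15.isGorensteinLocalRing_stalk_fieldExt_iff_of_lft hsq x).2 (h3 _).2
  · intro hW
    obtain ⟨h1, h2, h3, h4⟩ := hW.of_iso e
    haveI := h1
    refine ⟨(Groth.Agent.S4627.result (K := K) p).2 (CubeField.geometricallyIntegral_of_isIntegral _),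
      hd.symm.trans h3, fun z => ⟨gn_of_normal_bc p h2 z, ?_⟩⟩
    obtain ⟨z', hz', -⟩ := DimF18.exists_over hsq z
    have := (Goren15.isGorensteinLocalRing_stalk_fieldExt_iff_of_lft hsq z').1 (h4 z')
    rwa [show (FBase.bcπ p K) z' = z from hz'] at this

variable {X S : Scheme.{u}} (f : X ⟶ S) [LocallyOfFinitePresentation f]

/-- A good point of the base. -/
def Good (s : S) : Prop :=
  GoodK (k := S.residueField s) (f.fiberToSpecResidueField s)

theorem good_iff {K : Type u} [Field K] [IsAlgClosed K] (σ : Spec (CommRingCat.of K) ⟶ S) :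
    Good f (σ (IsLocalRing.closedPoint K)) ↔ IsSurf (pullback f σ) := by
  let φ := S.descResidueField (Scheme.stalkClosedPointTo σ)
  have hφ : Spec.map φ ≫ S.fromSpecResidueField (σ (IsLocalRing.closedPoint K)) = σ :=
    Scheme.descResidueField_stalkClosedPointTo_fromSpecResidueField K S σ
  let m : pullback f σ ⟶ f.fiber (σ (IsLocalRing.closedPoint K)) :=
    pullback.lift (pullback.fst f σ) (pullback.snd f σ ≫ Spec.map φ)
      (by rw [Category.assoc, hφ]; exact pullback.condition)
  have sq : IsPullback m (pullback.snd f σ) (f.fiberToSpecResidueField (σ (IsLocalRing.closedPoint K)))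
      (Spec.map φ) := by
    refine IsPullback.of_right ?_ (pullback.lift_snd _ _ _)
      (IsPullback.of_hasPullback f (S.fromSpecResidueField (σ (IsLocalRing.closedPoint K))))
    rw [hφ, pullback.lift_fst]
    exact IsPullback.of_hasPullback f σ
  exact goodK_iff (k := S.residueField (σ (IsLocalRing.closedPoint K))) sq

theorem good_of_pullback {X' S' : Scheme.{u}} {g' : X' ⟶ X} {f' : X' ⟶ S'} {v : S' ⟶ S}
    [LocallyOfFinitePresentation f'] (sq : IsPullback g' f' f v) (s : S') (h : Good f' s) : Good f (v s) := by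
  let K := AlgebraicClosure (S'.residueField s)
  let σ : Spec (CommRingCat.of K) ⟶ S' :=
    Spec.map (CommRingCat.ofHom (algebraMap (S'.residueField s) K)) ≫ S'.fromSpecResidueField s
  have hσ : σ (IsLocalRing.closedPoint K) = s := Scheme.fromSpecResidueField_apply s _
  have h1 : IsSurf (pullback f' σ) := (good_iff f' σ).1 (by rw [hσ]; exact h)
  have h2 : IsSurf (pullback f (σ ≫ v)) :=
    h1.of_iso (((IsPullback.of_hasPullback f' σ).paste_horiz sq).isoPullback)
  have h3 := (good_iff f (σ ≫ v)).2 h2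
  rwa [Scheme.Hom.comp_apply, hσ] at h3

theorem good_pullback {X' S' : Scheme.{u}} {g' : X' ⟶ X} {f' : X' ⟶ S'} {v : S' ⟶ S}
    [LocallyOfFinitePresentation f'] (sq : IsPullback g' f' f v) (s : S') (h : Good f (v s)) : Good f' s := by
  let K := AlgebraicClosure (S'.residueField s)
  let σ : Spec (CommRingCat.of K) ⟶ S' :=
    Spec.map (CommRingCat.ofHom (algebraMap (S'.residueField s) K)) ≫ S'.fromSpecResidueField s
  have hσ : σ (IsLocalRing.closedPoint K) = s := Scheme.fromSpecResidueField_apply s _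
  have h1 : IsSurf (pullback f (σ ≫ v)) := (good_iff f (σ ≫ v)).1 (by rw [Scheme.Hom.comp_apply, hσ]; exact h)
  have h2 : IsSurf (pullback f' σ) :=
    h1.of_iso (((IsPullback.of_hasPullback f' σ).paste_horiz sq).isoPullback).symm
  have h3 := (good_iff f' σ).2 h2
  rwa [hσ] at h3

theorem isOpen_good [IsProper f] [Flat f] : IsOpen {s : S | Good f s} := by
  have hfp : CohB1.IsFP (Coh.structureModule X) := CurveR1_10.isFP_structure
  have hfl : FlatMod.IsFlatOver f (Coh.structureModule X) := CurveR1_10.isFlatOver_structure f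
  have huniv : ∀ t : S, topologicalKrullDim ↥{z : ↥(f.fiber t) | Nontrivial (((Scheme.Modules.pullback (f.fiberι t)).obj
      (Coh.structureModule X)).presheaf.stalk z)} = topologicalKrullDim ↥(f.fiber t) := fun t => by
    rw [CurveModel9.setOf_nontrivial_stalk f t]
    exact IsHomeomorph.topologicalKrullDim_eq _ (Homeomorph.Set.univ _).isHomeomorph
  have hdim : IsOpen {s : S | topologicalKrullDim ↥(f.fiber s) = 2} := by
    have := (FibDepth5.isLocallyConstant_supportDim f _ hfp hfl).isOpen_fiber 2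
    simpa only [huniv] using this
  let N : Set X := {x | GN (k := S.residueField (f x)) (f.fiberToSpecResidueField (f x)) (f.asFiber x)}
  have hN : IsOpen N := by
    refine (congrArg IsOpen (Set.ext fun x => ?_)).mp (FibDepth5.isOpen_flat_geomNormal f)
    exact ⟨fun h => (FibDepth5.geomNormal_iff (k := S.residueField (f x)) (f.fiberToSpecResidueField (f x))
        (f.asFiber x)).1 ((FibDepth5.geomNormal_fibre_iff f x).2 h.2),
      fun h => ⟨Flat.stalkMap f x, (FibDepth5.geomNormal_fibre_iff f x).1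
        ((FibDepth5.geomNormal_iff (k := S.residueField (f x)) (f.fiberToSpecResidueField (f x))
        (f.asFiber x)).2 h)⟩⟩
  have hN' : IsOpen (f '' Nᶜ)ᶜ := (f.isClosedMap _ hN.isClosed_compl).isOpen_compl
  have key : ∀ s : S, s ∈ (f '' Nᶜ)ᶜ ↔
      ∀ z : f.fiber s, GN (k := S.residueField s) (f.fiberToSpecResidueField s) z := by
    intro s
    constructor
    · intro hs z
      refine FibDepth5.fib_pt_rec f
        (P := fun s z => (∀ x : X, f x = s → x ∈ N) →
          GN (k := S.residueField s) (f.fiberToSpecResidueField s) z)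
        (Q := fun _ => True) (fun x => iff_of_true (fun h => h x rfl) trivial) s z |>.2 trivial ?_
      exact fun x hx => not_not.1 fun hn => hs ⟨x, hn, hx⟩
    · rintro h ⟨x, hx, rfl⟩
      exact hx (h _)
  have e : {s : S | Good f s} = {s | GeometricallyIntegral (f.fiberToSpecResidueField s)} ∩
      ({s | topologicalKrullDim ↥(f.fiber s) = 2} ∩ ((f '' Nᶜ)ᶜ ∩
        {s | ∀ x : ↥(f.fiber s), LocCoh.IsGorensteinLocalRing ((f.fiber s).presheaf.stalk x)})) := by
    ext s
    simp only [Set.mem_setOf_eq, Set.mem_inter_iff, Good, GoodK, key, forall_and]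
  rw [e]
  exact (Groth.Agent.S2553.result f).inter (hdim.inter (hN'.inter (Groth.Agent.S13624.result X S f)))

theorem exists_model {A : Type u} [CommRing A] {X : Scheme.{u}} (f : X ⟶ Spec (CommRingCat.of A))
    [IsProper f] [Flat f] [LocallyOfFinitePresentation f] (hgood : ∀ s, Good f s) :
    ∃ A₁ : Subalgebra ℤ A, A₁.FG ∧ ∃ (X₁ : Scheme.{u}) (f₁ : X₁ ⟶ Spec (CommRingCat.of ↥A₁)) (v : X ⟶ X₁),
      IsPullback v f f₁ (Spec.map (CommRingCat.ofHom (algebraMap (↥A₁) A))) ∧ IsProper f₁ ∧ Flat f₁ ∧
        ∃ _ : LocallyOfFinitePresentation f₁, ∀ s, Good f₁ s := by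
  obtain ⟨A₀, hA₀, X₀, f₀, v, hfl, hpr, hfp, hsq⟩ := GeomSmoothing3.exists_proper_flat_model f
  haveI := hfl
  haveI := hpr
  haveI := hfp
  obtain ⟨A₁, hle, hA₁, hU⟩ := CurveModel9.exists_le_mem_open hA₀ ⟨{s | Good f₀ s}, isOpen_good f₀⟩
    (fun x => good_of_pullback f₀ hsq x (hgood x))
  let w := Spec.map (CommRingCat.ofHom (Subalgebra.inclusion hle).toRingHom)
  have hw : Spec.map (CommRingCat.ofHom (algebraMap (↥A₁) A)) ≫ w =
      Spec.map (CommRingCat.ofHom (algebraMap (↥A₀) A)) := by
    rw [← Spec.map_comp]; rfl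
  haveI : LocallyOfFinitePresentation (pullback.snd f₀ w) := MorphismProperty.pullback_snd _ _ hfp
  refine ⟨A₁, hA₁, pullback f₀ w, pullback.snd f₀ w,
    pullback.lift v (f ≫ Spec.map (CommRingCat.ofHom (algebraMap (↥A₁) A)))
      (by rw [Category.assoc, hw]; exact hsq.w), ?_, inferInstance, inferInstance, inferInstance,
    fun s => good_pullback f₀ (IsPullback.of_hasPullback f₀ w) s (hU s)⟩
  refine IsPullback.of_right ?_ (pullback.lift_snd _ _ _) (IsPullback.of_hasPullback f₀ w)
  rw [pullback.lift_fst, hw]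
  exact hsq

end Groth.Agent.GorSurfModel9
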